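import Groth.Agent.FittTr.Basic
import Groth.Agent.ExtPres.Basic
import Groth.Agent.Synt29.H1Vanish
import Groth.Agent.S15821
import Groth.Agent.S18939
import Mathlib.RingTheory.Smooth.Field

/-!
# The conormal sequence of a reduced complete intersection over a perfect field
-/

set_option autoImplicit false

universe u

open Algebra CategoryTheory

namespace Groth.Agent.CIConormal

variable (k : Type u) [Field k] [PerfectField k]

/-- The local ring of a reduced ring at an associated prime is formally smooth over a perfect field. -/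
theorem h1Cotangent_atPrime (B : Type u) [CommRing B] [Algebra k B] [Algebra.FiniteType k B] [IsReduced B]
    [IsNoetherianRing B] (p : Ideal B) [p.IsPrime] (hp : p ∈ associatedPrimes B B) :
    Subsingleton (Algebra.H1Cotangent k (Localization.AtPrime p)) := by
  obtain ⟨-, z, hz⟩ := Alg6.mem_ass_iff.mp hp
  have hz0 : z ≠ 0 := fun h => ‹p.IsPrime›.ne_top ((Ideal.eq_top_iff_one p).mpr ((hz 1).mpr (by simp [h])))
  have hzp : z ∉ p := fun h => hz0 (IsReduced.eq_zero z ⟨2, by rw [sq]; exact (hz z).mp h⟩)
  have hbot : IsLocalRing.maximalIdeal (Localization.AtPrime p) = ⊥ := by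
    rw [← Localization.AtPrime.map_eq_maximalIdeal, eq_bot_iff, Ideal.map_le_iff_le_comap]
    intro c hc
    rw [Ideal.mem_comap, Ideal.mem_bot, IsLocalization.map_eq_zero_iff p.primeCompl]
    exact ⟨⟨z, hzp⟩, by rw [mul_comm]; exact (hz c).mp hc⟩
  letI := (IsLocalRing.isField_iff_maximalIdeal_eq.mpr hbot).toField
  haveI : Algebra.EssFiniteType k (Localization.AtPrime p) :=
    Algebra.EssFiniteType.comp k B _
  haveI : Algebra.FormallySmooth k (Localization.AtPrime p) := inferInstance
  exact Algebra.FormallySmooth.subsingleton_h1Cotangent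

theorem fitting_eq (r c : ℕ) (B : Type u) [CommRing B] [Algebra k B] [IsReduced B]
    (φ : MvPolynomial (Fin r) k →ₐ[k] B) (hφ : Function.Surjective φ)
    (a : Fin c → MvPolynomial (Fin r) k)
    (ha : RingTheory.Sequence.IsRegular (MvPolynomial (Fin r) k) (List.ofFn a))
    (hker : RingHom.ker φ.toRingHom = Ideal.span (Set.range a)) :
    Fitt.ideal B (KaehlerDifferential k B) (r - c) =
      Fitt.ideal B (Abelian.Ext.{u} (ModuleCat.of B (KaehlerDifferential k B)) (ModuleCat.of B B) 1) 0 := by
  classical
  rcases subsingleton_or_nontrivial B with hB | hB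
  · exact Subsingleton.elim _ _
  haveI : Algebra.FiniteType k B := Algebra.FiniteType.of_surjective φ hφ
  haveI : IsNoetherianRing B := Algebra.FiniteType.isNoetherianRing k B
  let P := Generators.ofAlgHom φ hφ
  let E := P.toExtension
  have hEker : E.ker = Ideal.span (Set.range a) := by
    refine (Generators.ker_eq_ker_aeval_val (P := P)).trans ?_
    rw [← hker]
    have : MvPolynomial.aeval P.val = φ := MvPolynomial.algHom_ext fun i => MvPolynomial.aeval_X _ i
    rw [this]
    rfl
  have hmem : ∀ i, a i ∈ E.ker := fun i => hEker ▸ Ideal.subset_span ⟨i, rfl⟩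
  have hne : E.ker ≠ ⊤ := RingHom.ker_ne_top _
  obtain ⟨b, hb⟩ := S18939.result hne c (fun i => ⟨a i, hmem i⟩) (S15821.result _ _ ha.toIsWeaklyRegular).1 hEker.symm
  let v : Fin c → E.Cotangent := fun i => Extension.Cotangent.mk ⟨a i, hmem i⟩
  have hli : LinearIndependent B v := by
    rw [Fintype.linearIndependent_iff]
    intro β hβ i
    choose p hp using fun i => E.algebraMap_surjective (β i)
    have h0 : ∑ i, Ideal.Quotient.mk E.ker (p i) • b i = 0 := by
      let vh : E.Cotangent →+ E.ker.Cotangent :=
        { toFun := fun x => x.val, map_zero' := rfl, map_add' := fun _ _ => rfl }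
      have h1 : vh (∑ i, β i • v i) = 0 := by rw [hβ, map_zero]
      refine Eq.trans ?_ h1
      refine Eq.trans ?_ (map_sum vh _ _).symm
      refine Finset.sum_congr rfl fun i _ => ?_
      show _ = (β i • v i).val
      rw [hb, ← hp, algebraMap_smul (R := E.Ring) B]
      rw [Extension.Cotangent.val_smul']
      exact algebraMap_smul (E.Ring ⧸ E.ker) (p i) _
    have h2 := Fintype.linearIndependent_iff.mp b.linearIndependent _ h0 i
    rw [← hp, ← RingHom.mem_ker]
    exact Ideal.Quotient.eq_zero_iff_mem.mp h2
  have hsp : ⊤ ≤ Submodule.span B (Set.range v) := by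
    intro x _
    obtain ⟨⟨q, hq⟩, rfl⟩ := Extension.Cotangent.mk_surjective x
    obtain ⟨d, hd⟩ := Ideal.mem_span_range_iff_exists_fun.mp (hEker ▸ hq : q ∈ Ideal.span (Set.range a))
    refine Submodule.mem_span_range_iff_exists_fun B |>.mpr ⟨fun i => algebraMap E.Ring B (d i), ?_⟩
    simp only [v, algebraMap_smul, ← map_smul, ← map_sum]
    congr 1
    refine Subtype.ext ?_
    rw [Submodule.coe_sum]
    exact hd
  let bc : Module.Basis (Fin c) B E.Cotangent := Module.Basis.mk hli hsp
  haveI : Module.Projective B P.toExtension.Cotangent := Module.Projective.of_basis bc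
  have hH1 : Subsingleton (Algebra.H1Cotangent k B) :=
    Synt29.subsingleton_h1Cotangent_of_associatedPrimes P fun p hp hass =>
      haveI := hp
      h1Cotangent_atPrime k B p hass
  have hinj : Function.Injective E.cotangentComplex :=
    E.subsingleton_h1Cotangent.mp P.equivH1Cotangent.subsingleton
  let bs := P.cotangentSpaceBasis
  let δ : (Fin c → B) →ₗ[B] (Fin r → B) :=
    bs.equivFun.toLinearMap ∘ₗ E.cotangentComplex ∘ₗ bc.equivFun.symm.toLinearMap
  let π : (Fin r → B) →ₗ[B] KaehlerDifferential k B := E.toKaehler ∘ₗ bs.equivFun.symm.toLinearMap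
  have hδ : Function.Injective δ :=
    bs.equivFun.injective.comp (hinj.comp bc.equivFun.symm.injective)
  have hπ : Function.Surjective π := E.toKaehler_surjective.comp bs.equivFun.symm.surjective
  have hex : Function.Exact δ π := by
    intro y
    rw [show π y = E.toKaehler (bs.equivFun.symm y) from rfl, Extension.exact_cotangentComplex_toKaehler]
    constructor
    · rintro ⟨x, hx⟩
      refine ⟨bc.equivFun x, ?_⟩
      show bs.equivFun (E.cotangentComplex (bc.equivFun.symm (bc.equivFun x))) = y
      rw [LinearEquiv.symm_apply_apply, hx, LinearEquiv.apply_symm_apply]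
    · rintro ⟨z, rfl⟩
      exact ⟨bc.equivFun.symm z, (LinearEquiv.symm_apply_apply _ _).symm⟩
  have hcr : c ≤ r := FittTr.le_of_injective δ hδ
  obtain ⟨e⟩ := ExtPres.ext1_coker δ hδ (KaehlerDifferential k B) π hπ hex
  rw [FittTr.ideal_of_surjective π hπ, (LinearMap.exact_iff.mp hex), ← FittX.ideal_congr e, FittTr.ideal_coker_dualMap,
    Nat.sub_zero, Nat.sub_sub_self hcr]

end Groth.Agent.CIConormal
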